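import Cfsg.Agent.S0713
import Mathlib.GroupTheory.Perm.Centralizer
import Mathlib.GroupTheory.GroupAction.MultipleTransitivity
import Mathlib.GroupTheory.SpecificGroups.Alternating
import Mathlib.FieldTheory.Finite.Basic
import Mathlib.Data.Set.Card.Arithmetic

/-!
Lemmas on permutation groups containing a cycle of large prime length.
-/

set_option autoImplicit false

namespace CfsgLib.AltTwoGen

open MulAction Equiv Equiv.Perm
open scoped Pointwise

variable {α : Type*} [Fintype α] [DecidableEq α]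

/-- A transitive group containing a cycle of prime length `q > |α|/2` is primitive. -/
theorem isPreprimitive_of_cycle (G : Subgroup (Equiv.Perm α)) [IsPretransitive G α] {t : Equiv.Perm α}
    (ht : t.IsCycle) (htG : t ∈ G) (hq : t.support.card.Prime)
    (hlt : Fintype.card α < 2 * t.support.card) : IsPreprimitive G α := by
  obtain ⟨a, ha⟩ := ht.nonempty_support
  rw [Equiv.Perm.mem_support] at ha
  refine IsPreprimitive.of_isTrivialBlock_base a ?_
  intro B haB hB
  by_contra hnt
  rw [IsTrivialBlock, not_or, Set.not_subsingleton_iff] at hnt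
  obtain ⟨hsub, hne⟩ := hnt
  have hcardB : 2 ≤ B.ncard := (Set.one_lt_ncard (Set.toFinite B)).2 hsub
  have hdvd := hB.ncard_dvd_card ⟨a, haB⟩
  rw [Nat.card_eq_fintype_card] at hdvd
  have hBlt : B.ncard < Fintype.card α := by
    rw [← Nat.card_eq_fintype_card, ← Set.ncard_univ]
    exact Set.ncard_lt_ncard (lt_top_iff_ne_top.2 hne) (Set.toFinite _)
  have hhalf : 2 * B.ncard ≤ Fintype.card α := by
    obtain ⟨c, hc⟩ := hdvd
    rcases c with _ | _ | c
    · omega
    · omega
    · rw [hc, mul_comm]; exact Nat.mul_le_mul_left _ (by omega)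
  set T : G := ⟨t, htG⟩
  by_cases hfix : T • B = B
  · have hsupp : (t.support : Set α) ⊆ B := by
      intro x hx
      rw [Finset.mem_coe, Equiv.Perm.mem_support] at hx
      obtain ⟨i, hi⟩ := ht.exists_zpow_eq ha hx
      have hz : T ^ i • B = B := by
        have : T ∈ stabilizer G B := hfix
        exact (stabilizer G B).zpow_mem this i
      rw [← hz]
      refine ⟨a, haB, ?_⟩
      show ((T ^ i : G) : Equiv.Perm α) a = x
      rw [Subgroup.coe_zpow]; exact hi
    have := Set.ncard_le_ncard hsupp (Set.toFinite _)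
    rw [Set.ncard_coe_finset] at this
    omega
  · set S := stabilizer G B with hS
    have hinj : Function.Injective (fun i : Fin t.support.card => T ^ (i : ℕ) • B) := by
      intro i j hij
      have h1 : ((T ^ (i : ℕ))⁻¹ * T ^ (j : ℕ)) • B = B := by
        rw [mul_smul, inv_smul_eq_iff]; exact hij.symm
      by_contra hne'
      apply hfix
      have hord : orderOf T = t.support.card := by
        rw [← orderOf_injective G.subtype G.subtype_injective T]; exact ht.orderOf
      have hmem : T ^ ((j : ℤ) - i) ∈ S := by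
        have : (T ^ (i : ℕ))⁻¹ * T ^ (j : ℕ) ∈ S := h1
        rwa [← zpow_natCast T i, ← zpow_natCast T j, ← zpow_neg, ← zpow_add, neg_add_eq_sub] at this
      have hcop : IsCoprime ((j : ℤ) - i) (t.support.card : ℤ) := by
        refine (((Nat.prime_iff_prime_int.1 hq).coprime_iff_not_dvd).2 fun hd => hne' ?_).symm
        have h2 := Int.eq_zero_of_abs_lt_dvd hd (by
          have := i.isLt; have := j.isLt
          rw [abs_lt]; omega)
        exact Fin.ext (by omega)
      obtain ⟨u, v, huv⟩ := hcop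
      have : T ^ (1 : ℤ) ∈ S := by
        have hz : T ^ t.support.card = 1 := orderOf_dvd_iff_pow_eq_one.1 hord.dvd
        rw [← huv, zpow_add, zpow_mul' T v, zpow_natCast, hz, one_zpow, mul_one, zpow_mul' T u]
        exact S.zpow_mem hmem u
      rwa [zpow_one] at this
    have hd : Pairwise fun i j : Fin t.support.card => Disjoint (T ^ (i : ℕ) • B) (T ^ (j : ℕ) • B) := by
      intro i j hij
      exact hB fun h => hij (hinj h)
    have h2 : (⋃ i : Fin t.support.card, T ^ (i : ℕ) • B).ncard = t.support.card * B.ncard := by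
      rw [Set.ncard_iUnion_of_finite (fun i => Set.toFinite _) hd, finsum_eq_sum_of_fintype]
      simp [Set.ncard_smul_set]
    have h3 := Set.ncard_le_ncard (Set.subset_univ (⋃ i : Fin t.support.card, T ^ (i : ℕ) • B)) (Set.toFinite _)
    rw [h2, Set.ncard_univ, Nat.card_eq_fintype_card] at h3
    have : t.support.card * 2 ≤ t.support.card * B.ncard := Nat.mul_le_mul_left _ hcardB
    omega

/-- Transitivity of a group containing a cycle `t` and an element `s` of prime order moving the
fixed points of `t`, provided the order of `s` exceeds their number. -/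
theorem isPretransitive_of_two (G : Subgroup (Equiv.Perm α)) {s t : Equiv.Perm α} (hs : s ∈ G) (htG : t ∈ G)
    (ht : t.IsCycle) (hp : (orderOf s).Prime) (hcard : Fintype.card α < orderOf s + t.support.card)
    (hmove : ∀ x, t x = x → s x ≠ x) : IsPretransitive G α := by
  obtain ⟨a, ha⟩ := ht.nonempty_support
  rw [Equiv.Perm.mem_support] at ha
  rw [isPretransitive_iff_base a]
  intro x
  suffices h : ∃ i : ℕ, t ((s ^ i) x) ≠ (s ^ i) x by
    obtain ⟨i, hi⟩ := h
    obtain ⟨j, hj⟩ := ht.exists_zpow_eq ha hi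
    refine ⟨(⟨s, hs⟩ : G) ^ (-(i : ℤ)) * (⟨t, htG⟩ : G) ^ j, ?_⟩
    show (((⟨s, hs⟩ : G) ^ (-(i : ℤ)) * (⟨t, htG⟩ : G) ^ j : G) : Equiv.Perm α) a = x
    rw [Subgroup.coe_mul, Subgroup.coe_zpow, Subgroup.coe_zpow, Equiv.Perm.mul_apply]
    show (s ^ (-(i : ℤ))) ((t ^ j) a) = x
    rw [hj, zpow_neg, zpow_natCast, Equiv.Perm.inv_eq_iff_eq]
  by_contra h
  push Not at h
  have hx : s x ≠ x := hmove x (by simpa using h 0)
  have hinj : Set.InjOn (fun i : ℕ => (s ^ i) x) (Finset.range (orderOf s) : Set ℕ) := by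
    intro i hi j hj hij
    simp only [Finset.coe_range, Set.mem_Iio] at hi hj
    by_contra hne
    apply hx
    have h1 : (s ^ ((j : ℤ) - i)) x = x := by
      rw [sub_eq_neg_add, zpow_add, zpow_neg, zpow_natCast, zpow_natCast, Equiv.Perm.mul_apply,
        Equiv.Perm.inv_eq_iff_eq]
      exact hij.symm
    have hcop : IsCoprime ((j : ℤ) - i) (orderOf s : ℤ) := by
      refine (((Nat.prime_iff_prime_int.1 hp).coprime_iff_not_dvd).2 fun hd => hne ?_).symm
      have h2 := Int.eq_zero_of_abs_lt_dvd hd (by rw [abs_lt]; omega)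
      omega
    obtain ⟨u, v, huv⟩ := hcop
    have : (s ^ (1 : ℤ)) x = x := by
      rw [← huv, zpow_add, zpow_mul' s v, zpow_natCast, pow_orderOf_eq_one, one_zpow, mul_one, zpow_mul' s u]
      exact Equiv.Perm.zpow_apply_eq_self_of_apply_eq_self h1 u
    rwa [zpow_one] at this
  have hle : (Finset.range (orderOf s)).card ≤ t.supportᶜ.card :=
    Finset.card_le_card_of_injOn (fun i : ℕ => (s ^ i) x)
      (fun i _ => by simpa [Finset.mem_compl, Equiv.Perm.mem_support] using h i) hinj
  rw [Finset.card_range, Finset.card_compl] at hle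
  have := t.support.card_le_univ
  omega

/-- A permutation commuting with a cycle and fixing all its fixed points is one of its powers. -/
theorem mem_zpowers_of_commute {g y : Equiv.Perm α} (hg : g.IsCycle) (hc : Commute y g)
    (hfix : ∀ x, g x = x → y x = x) : y ∈ Subgroup.zpowers g := by
  obtain ⟨a, ha⟩ := hg.nonempty_support
  rw [Equiv.Perm.mem_support] at ha
  have hya : g (y a) ≠ y a := by
    rw [← Equiv.Perm.mul_apply, ← hc.eq, Equiv.Perm.mul_apply]
    exact fun h => ha (y.injective h)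
  obtain ⟨i, hi⟩ := hg.exists_zpow_eq ha hya
  refine ⟨i, Equiv.ext fun x => ?_⟩
  show (g ^ i) x = y x
  by_cases hx : g x = x
  · rw [hfix x hx, Equiv.Perm.zpow_apply_eq_self_of_apply_eq_self hx]
  · obtain ⟨j, rfl⟩ := hg.exists_zpow_eq ha hx
    rw [← Equiv.Perm.mul_apply y, (hc.zpow_right j).eq, Equiv.Perm.mul_apply, ← hi,
      ← Equiv.Perm.mul_apply, ← Equiv.Perm.mul_apply, ← zpow_add, ← zpow_add, add_comm]

/-- An involution inverting a cycle of length `≡ 3 mod 4` and fixing its fixed points is odd. -/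
theorem sign_eq_neg_one_of_inverts {g h : Equiv.Perm α} (hg : g.IsCycle) (hodd : g.support.card % 4 = 3)
    (h2 : orderOf h = 2) (hinv : h * g * h⁻¹ = g⁻¹) (hfix : ∀ x, g x = x → h x = x) :
    Equiv.Perm.sign h = -1 := by
  haveI : Fact (Nat.Prime 2) := ⟨Nat.prime_two⟩
  have hsub : h.support ⊆ g.support := fun x hx => by
    rw [Equiv.Perm.mem_support] at hx ⊢
    exact fun e => hx (hfix x e)
  have hone : (g.support \ h.support).card ≤ 1 := by
    rw [Finset.card_le_one]
    intro x hx y hy
    rw [Finset.mem_sdiff, Equiv.Perm.mem_support, Equiv.Perm.notMem_support] at hx hy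
    obtain ⟨i, hi⟩ := hg.exists_zpow_eq hx.1 hy.1
    have hord : orderOf g = g.support.card := hg.orderOf
    have e1 : h * g ^ i * h⁻¹ = (g ^ i)⁻¹ := by rw [← conj_zpow, hinv, inv_zpow]
    have e2 := congrArg (fun w : Equiv.Perm α => w x) e1
    simp only [Equiv.Perm.mul_apply] at e2
    rw [show h⁻¹ x = x from Equiv.Perm.inv_eq_iff_eq.2 hx.2.symm, hi, hy.2] at e2
    have e3 : (g ^ i) ((g ^ i) x) = x := by
      rw [hi]
      calc (g ^ i) y = (g ^ i) ((g ^ i)⁻¹ x) := by rw [← e2]
        _ = x := Equiv.apply_symm_apply _ _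
    rw [← Equiv.Perm.mul_apply, ← zpow_add] at e3
    have hpow : g ^ (i + i) = 1 := by
      refine Equiv.ext fun w => ?_
      by_cases hw : g w = w
      · exact Equiv.Perm.zpow_apply_eq_self_of_apply_eq_self hw _
      · obtain ⟨k, rfl⟩ := hg.exists_zpow_eq hx.1 hw
        rw [← Equiv.Perm.mul_apply, ← zpow_add, add_comm, zpow_add, Equiv.Perm.mul_apply, e3]
        rfl
    rw [← orderOf_dvd_iff_zpow_eq_one, ← two_mul, hord] at hpow
    have hcop : IsCoprime (g.support.card : ℤ) 2 := by
      rw [← Nat.cast_two (R := ℤ), Nat.isCoprime_iff_coprime, Nat.coprime_two_right, Nat.odd_iff]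
      omega
    obtain ⟨k, hk⟩ := hcop.dvd_of_dvd_mul_left hpow
    rw [← hi, hk, zpow_mul, zpow_natCast, ← hord, pow_orderOf_eq_one, one_zpow]
    rfl
  obtain ⟨n, hn⟩ := Equiv.Perm.cycleType_prime_order (σ := h) (by rw [h2]; exact Nat.prime_two)
  have hsum := h.sum_cycleType
  rw [hn, h2, Multiset.sum_replicate, smul_eq_mul] at hsum
  have hcard : h.support.card + (g.support \ h.support).card = g.support.card := by
    rw [add_comm, Finset.card_sdiff_add_card_eq_card hsub]
  rw [Equiv.Perm.sign_of_cycleType, hn, h2, Multiset.sum_replicate, Multiset.card_replicate, smul_eq_mul,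
    Odd.neg_one_pow (by rw [Nat.odd_iff]; omega)]

/-- Conjugation by `h` on a subgroup `⟨g⟩` of prime order. -/
theorem conj_cases {K : Type*} [Group K] [Finite K] {g h : K} {l : ℕ} [Fact l.Prime] (hg : orderOf g = l)
    (hmem : h * g * h⁻¹ ∈ Subgroup.zpowers g) :
    ∃ k : ℤ, h * g * h⁻¹ = g ^ k ∧ (k : ZMod l) ^ Nat.gcd (orderOf h) (l - 1) = 1 := by
  obtain ⟨k, hk⟩ := hmem
  have hk' : h * g * h⁻¹ = g ^ k := hk.symm
  refine ⟨k, hk', ?_⟩
  have hpow : ∀ n : ℕ, h ^ n * g * (h ^ n)⁻¹ = g ^ (k ^ n) := by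
    intro n
    induction n with
    | zero => simp
    | succ n ih =>
      calc h ^ (n + 1) * g * (h ^ (n + 1))⁻¹ = h * (h ^ n * g * (h ^ n)⁻¹) * h⁻¹ := by
            rw [pow_succ']; group
        _ = (h * g * h⁻¹) ^ (k ^ n) := by rw [ih, conj_zpow]
        _ = g ^ (k ^ (n + 1)) := by rw [hk', ← zpow_mul, pow_succ']
  have h1 := hpow (orderOf h)
  rw [pow_orderOf_eq_one, one_mul, inv_one, mul_one] at h1
  nth_rewrite 1 [← zpow_one g] at h1
  rw [zpow_eq_zpow_iff_modEq, hg, ← ZMod.intCast_eq_intCast_iff] at h1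
  push_cast at h1
  have hk0 : (k : ZMod l) ≠ 0 := by
    intro e
    rw [e, zero_pow (orderOf_pos h).ne'] at h1
    exact one_ne_zero h1
  exact pow_gcd_eq_one.2 ⟨h1.symm, (ZMod.pow_card_sub_one_eq_one hk0)⟩

end CfsgLib.AltTwoGen
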