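import Cfsg.Agent.Lib.AltTwoGen.Basic
import Cfsg.Agent.Lib.Invol.BrauerFowler
import Cfsg.Agent.Lib.Perm.Multiply
import Cfsg.Agent.Lib.ClassSize.SylowCentralizer
import Mathlib.GroupTheory.GroupAction.Jordan
import Mathlib.GroupTheory.Transfer
import Mathlib.GroupTheory.SpecificGroups.Alternating.Simple
import Mathlib.Tactic.NormNum.Prime
import Mathlib.Tactic.IntervalCases

/-!
Primitive groups of degree `6`, `7` and `13` with a cycle of large prime length.
-/

set_option autoImplicit false

namespace CfsgLib.AltTwoGen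

open MulAction Equiv Equiv.Perm
open scoped Pointwise

variable {α : Type*} [Fintype α] [DecidableEq α]

/-- A primitive group with a cycle of prime length missing exactly two points is triply transitive. -/
theorem three_pretransitive {G : Subgroup (Equiv.Perm α)} (hG : IsPreprimitive G α) {g : Equiv.Perm α}
    (hg : g ∈ G) (hgc : g.IsCycle) (hp : g.support.card.Prime) (hd : g.support.card + 2 = Fintype.card α) :
    IsMultiplyPretransitive G α 3 := by
  set s : Set α := {x | g x = x} with hs
  have hscard : s.ncard = 2 := by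
    rw [show s = ((g.supportᶜ : Finset α) : Set α) by ext x; simp [hs], Set.ncard_coe_finset,
      Finset.card_compl]
    omega
  have hKprim : IsPreprimitive (fixingSubgroup G s) (SubMulAction.ofFixingSubgroup G s) := by
    have hgK : (⟨g, hg⟩ : G) ∈ fixingSubgroup G s := (mem_fixingSubgroup_iff G).2 fun x hx => hx
    haveI : IsPretransitive (fixingSubgroup G s) (SubMulAction.ofFixingSubgroup G s) := by
      refine ⟨fun u v => ?_⟩
      have hu : g (u : α) ≠ (u : α) := u.2
      have hv : g (v : α) ≠ (v : α) := v.2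
      obtain ⟨i, hi⟩ := hgc.exists_zpow_eq hu hv
      exact ⟨(⟨_, hgK⟩ : fixingSubgroup G s) ^ i, Subtype.ext (by
        show ((((⟨_, hgK⟩ : fixingSubgroup G s) ^ i : fixingSubgroup G s) : G) : Equiv.Perm α) (u : α) = v
        simpa using hi)⟩
    refine IsPreprimitive.of_prime_card ?_
    have : Nat.card (SubMulAction.ofFixingSubgroup G s) = g.support.card := by
      show Nat.card (sᶜ : Set α) = g.support.card
      rw [Nat.card_coe_set_eq, Set.ncard_compl, hscard, Nat.card_eq_fintype_card]
      omega
    rwa [this]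
  have := hp.two_le
  exact (IsPreprimitive.isMultiplyPreprimitive hG (n := 1) hscard
    (by rw [Nat.card_eq_fintype_card]; omega) hKprim).isMultiplyPretransitive

theorem card_perm_eq : Nat.card (Equiv.Perm α) = (Fintype.card α).factorial := by
  rw [Nat.card_eq_fintype_card, Fintype.card_perm]

/-- The centraliser of a cycle. -/
theorem card_centralizer_cycle {g : Equiv.Perm α} (hg : g.IsCycle) :
    Nat.card (Subgroup.centralizer ({g} : Set (Equiv.Perm α))) =
      (Fintype.card α - g.support.card).factorial * g.support.card := by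
  rw [Equiv.Perm.nat_card_centralizer, hg.cycleType]
  simp

theorem orderOf_dvd_of_commute {g h : Equiv.Perm α} (hg : g.IsCycle) (hc : Commute h g) :
    orderOf h ∣ (Fintype.card α - g.support.card).factorial * g.support.card := by
  rw [← card_centralizer_cycle hg]
  exact Subgroup.orderOf_dvd_natCard _ (Subgroup.mem_centralizer_singleton_iff.2 hc.eq)

/-- A subgroup `G` of an alternating group with index `k` in it. -/
theorem eq_or_index_ge {G : Subgroup (Equiv.Perm α)} (heven : G ≤ alternatingGroup α)
    (h5 : 5 ≤ Fintype.card α) :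
    ∃ k, Nat.card G * k = Nat.card (alternatingGroup α) ∧
      (k = 1 → alternatingGroup α ≤ G) ∧ (k ≠ 1 → Nat.card (alternatingGroup α) ∣ k.factorial) := by
  refine ⟨(G.subgroupOf (alternatingGroup α)).index, ?_, fun h => ?_, fun h => ?_⟩
  · rw [← Nat.card_congr (Subgroup.subgroupOfEquivOfLe heven).toEquiv, Subgroup.card_mul_index]
  · rwa [Subgroup.index_eq_one, Subgroup.subgroupOf_eq_top] at h
  · haveI := alternatingGroup.isSimpleGroup (α := α) (by rw [Nat.card_eq_fintype_card]; exact h5)
    exact CfsgLib.Invol.card_dvd_factorial_index fun e => h (Subgroup.index_eq_one.2 e)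

theorem card_alt (h2 : 2 ≤ Fintype.card α) :
    2 * Nat.card (alternatingGroup α) = (Fintype.card α).factorial := by
  haveI : Nontrivial α := Fintype.one_lt_card_iff_nontrivial.1 (by omega)
  rw [← card_perm_eq, Nat.card_eq_fintype_card, Nat.card_eq_fintype_card, two_mul_card_alternatingGroup]

/-- Degree seven. -/
theorem alternating_le_seven {G : Subgroup (Equiv.Perm α)} (heven : G ≤ alternatingGroup α)
    (hα : Fintype.card α = 7) (hG : IsPreprimitive G α) {g t : Equiv.Perm α} (hg : g ∈ G)
    (hgc : g.IsCycle) (hg5 : g.support.card = 5) (ht : t ∈ G) (htc : t.IsCycle)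
    (ht7 : t.support.card = 7) : alternatingGroup α ≤ G := by
  haveI : Fact (Nat.Prime 7) := ⟨by norm_num⟩
  haveI : Fact (Nat.Prime 2) := ⟨Nat.prime_two⟩
  obtain ⟨k, hk, hk1, hk2⟩ := eq_or_index_ge heven (by omega)
  by_cases hke : k = 1
  · exact hk1 hke
  exfalso
  haveI := three_pretransitive hG hg hgc (by rw [hg5]; norm_num) (by omega)
  have h210 : 210 ∣ Nat.card G := by
    have := CfsgLib.Perm.descFactorial_dvd_card (G := G) (α := α) (k := 3)
      (by rw [Nat.card_eq_fintype_card]; omega)
    rwa [Nat.card_eq_fintype_card, hα] at this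
  have hA : Nat.card (alternatingGroup α) = 2520 := by
    have := card_alt (α := α) (by omega)
    rw [hα, show Nat.factorial 7 = 5040 by rfl] at this
    omega
  have hk7 : 7 ≤ k := by
    by_contra h
    have h1 := hk2 hke
    rw [hA] at h1
    interval_cases k <;> simp_all [Nat.factorial]
  have hG210 : Nat.card G = 210 := by
    obtain ⟨c, hc⟩ := h210
    rw [hA, hc, mul_assoc] at hk
    have hc12 : c * k = 12 := by omega
    have : c ≤ 1 := by
      by_contra h
      have : 2 * 7 ≤ c * k := Nat.mul_le_mul (by omega) hk7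
      omega
    interval_cases c
    · omega
    · omega
  set T : G := ⟨t, ht⟩
  have hTord : orderOf T = 7 := by
    rw [← orderOf_injective G.subtype G.subtype_injective T, G.coe_subtype]
    exact htc.orderOf.trans ht7
  let P : Sylow 7 G := Sylow.ofCard (Subgroup.zpowers T) (by
    rw [Nat.card_zpowers, hTord, hG210]
    rw [show (210 : ℕ) = 7 ^ 1 * 30 by norm_num, Nat.factorization_mul (by norm_num) (by norm_num),
      Finsupp.add_apply, Nat.Prime.factorization_pow (by norm_num), Finsupp.single_eq_same,
      Nat.factorization_eq_zero_of_not_dvd (by norm_num : ¬ 7 ∣ 30), add_zero, pow_one])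
  have hn : Nat.card (Sylow 7 G) ∣ 30 := by
    have h1 := P.card_dvd_index
    have h2 := (P : Subgroup G).card_mul_index
    rw [show Nat.card (P : Subgroup G) = 7 by
      show Nat.card (Subgroup.zpowers T) = 7
      rw [Nat.card_zpowers, hTord], hG210] at h2
    rwa [show (P : Subgroup G).index = 30 by omega] at h1
  have hmod : Nat.card (Sylow 7 G) % 7 = 1 := card_sylow_modEq_one 7 G
  have hN := P.card_eq_index_normalizer
  have hmul : Nat.card (Subgroup.normalizer ((P : Subgroup G) : Set G)) * Nat.card (Sylow 7 G) = 210 := by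
    rw [hN, ← hG210]; exact Subgroup.card_mul_index _
  have hcases : Nat.card (Sylow 7 G) = 1 ∨ Nat.card (Sylow 7 G) = 15 := by
    have hle := Nat.le_of_dvd (by norm_num) hn
    interval_cases Nat.card (Sylow 7 G) <;> omega
  have hconj : ∀ h : G, h ∈ Subgroup.normalizer ((P : Subgroup G) : Set G) →
      ∃ k : ℤ, (h : Equiv.Perm α) * t * (h : Equiv.Perm α)⁻¹ = t ^ k ∧
        (k : ZMod 7) ^ Nat.gcd (orderOf (h : Equiv.Perm α)) 6 = 1 := by
    intro h hh
    refine conj_cases (htc.orderOf.trans ht7) ?_
    obtain ⟨i, hi⟩ := (Subgroup.mem_normalizer_iff.1 hh T).1 (Subgroup.mem_zpowers T)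
    exact ⟨i, by simpa [T] using congrArg (Subtype.val) hi⟩
  have hfix : ∀ x, t x ≠ x := fun x => Equiv.Perm.mem_support.1 (by
    rw [Finset.eq_univ_of_card t.support (by rw [ht7, hα])]
    exact Finset.mem_univ x)
  have hcomm : ∀ h : Equiv.Perm α, Commute h t → orderOf h ∣ 7 := fun h hc => by
    simpa [hα, ht7] using orderOf_dvd_of_commute htc hc
  have hcase1 : ∀ k : ℤ, ∀ h : Equiv.Perm α, h * t * h⁻¹ = t ^ k → (k : ZMod 7) = 1 → Commute h t := by
    intro k h h1 h2
    have : t ^ k = t ^ (1 : ℤ) := by
      rw [zpow_eq_zpow_iff_modEq, htc.orderOf, ht7, ← ZMod.intCast_eq_intCast_iff]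
      simpa using h2
    rw [this, zpow_one] at h1
    exact mul_inv_eq_iff_eq_mul.1 h1
  rcases hcases with h | h
  · obtain ⟨i, hi, hgcd⟩ := hconj ⟨g, hg⟩ (by
      rw [show Subgroup.normalizer ((P : Subgroup G) : Set G) = ⊤ from Subgroup.index_eq_one.1 (hN ▸ h)]
      exact Subgroup.mem_top _)
    have hgo : orderOf g = 5 := hgc.orderOf.trans hg5
    simp only [hgo, show Nat.gcd 5 6 = 1 by norm_num, pow_one] at hgcd
    have := hcomm g (hcase1 i g hi hgcd)
    rw [hgo] at this
    norm_num at this
  · rw [h] at hmul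
    obtain ⟨u, hu⟩ := exists_prime_orderOf_dvd_card' (G := Subgroup.normalizer ((P : Subgroup G) : Set G)) 2
      ⟨7, by omega⟩
    have hu' : orderOf ((u : G) : Equiv.Perm α) = 2 := by rw [Subgroup.orderOf_coe, Subgroup.orderOf_coe, hu]
    obtain ⟨i, hi, hgcd⟩ := hconj u u.2
    simp only [hu', show Nat.gcd 2 6 = 2 by norm_num] at hgcd
    rcases sq_eq_one_iff.1 hgcd with e | e
    · have := hcomm _ (hcase1 i _ hi e)
      rw [hu'] at this
      norm_num at this
    · have hinv : ((u : G) : Equiv.Perm α) * t * ((u : G) : Equiv.Perm α)⁻¹ = t⁻¹ := by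
        rw [hi, ← zpow_neg_one, zpow_eq_zpow_iff_modEq, htc.orderOf, ht7, ← ZMod.intCast_eq_intCast_iff]
        simpa using e
      have := sign_eq_neg_one_of_inverts htc (by rw [ht7]) hu' hinv (fun x hx => absurd hx (hfix x))
      rw [Equiv.Perm.mem_alternatingGroup.1 (heven (u : G).2)] at this
      exact absurd this (by decide)

/-- Degree six: the alternating group or a group isomorphic to `A₅`. -/
theorem iso_six {G : Subgroup (Equiv.Perm α)} (heven : G ≤ alternatingGroup α) (hα : Fintype.card α = 6)
    [IsPretransitive G α] {g t : Equiv.Perm α} (hg : g ∈ G) (hg3 : orderOf g = 3) (ht : t ∈ G)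
    (htc : t.IsCycle) (ht5 : t.support.card = 5) :
    alternatingGroup α ≤ G ∨ Nonempty (G ≃* alternatingGroup (Fin 5)) := by
  haveI : Fact (Nat.Prime 5) := ⟨by norm_num⟩
  haveI : Fact (Nat.Prime 3) := ⟨by norm_num⟩
  obtain ⟨k, hk, hk1, hk2⟩ := eq_or_index_ge heven (by omega)
  by_cases hke : k = 1
  · exact Or.inl (hk1 hke)
  right
  obtain ⟨a⟩ : Nonempty α := Fintype.card_pos_iff.1 (by omega)
  have h6 : 6 ∣ Nat.card G := by
    rw [← hα, ← Nat.card_eq_fintype_card, ← index_stabilizer_of_transitive G a]
    exact Subgroup.index_dvd_card _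
  have h5 : 5 ∣ Nat.card G := by
    rw [← ht5, ← htc.orderOf]
    exact Subgroup.orderOf_dvd_natCard _ ht
  have h30 : 30 ∣ Nat.card G := Nat.Coprime.mul_dvd_of_dvd_of_dvd (by norm_num : Nat.Coprime 6 5) h6 h5
  have hA : Nat.card (alternatingGroup α) = 360 := by
    have := card_alt (α := α) (by omega)
    rw [hα, show Nat.factorial 6 = 720 by rfl] at this
    omega
  have hk6 : 6 ≤ k := by
    by_contra h
    have h1 := hk2 hke
    rw [hA] at h1
    interval_cases k <;> simp_all [Nat.factorial]
  obtain ⟨c, hc⟩ := h30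
  rw [hA, hc, mul_assoc] at hk
  have hc12 : c * k = 12 := by omega
  have hc2 : c = 1 ∨ c = 2 := by
    have : c ≤ 2 := by
      by_contra h
      have : 3 * 6 ≤ c * k := Nat.mul_le_mul (by omega) hk6
      omega
    interval_cases c <;> omega
  rcases hc2 with rfl | rfl
  · exfalso
    have hG30 : Nat.card G = 30 := by omega
    set T : G := ⟨t, ht⟩
    have hTord : orderOf T = 5 := by
      rw [← orderOf_injective G.subtype G.subtype_injective T, G.coe_subtype]
      exact htc.orderOf.trans ht5
    have hCcard : ∀ h : Equiv.Perm α, Commute h t → orderOf h ≠ 3 := fun h hc e => by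
      have := orderOf_dvd_of_commute htc hc
      rw [hα, ht5, e] at this
      norm_num [Nat.factorial] at this
    have key : ∀ z : Equiv.Perm α, orderOf z = 3 → t * z * t⁻¹ ∈ Subgroup.zpowers z → False := by
      intro z hz hmem
      obtain ⟨i, hi, hgcd⟩ := conj_cases hz hmem
      rw [htc.orderOf, ht5, show Nat.gcd 5 (3 - 1) = 1 by norm_num, pow_one] at hgcd
      have : z ^ i = z ^ (1 : ℤ) := by
        rw [zpow_eq_zpow_iff_modEq, hz, ← ZMod.intCast_eq_intCast_iff]
        simpa using hgcd
      rw [this, zpow_one, mul_inv_eq_iff_eq_mul] at hi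
      exact hCcard z (Commute.symm hi) hz
    let P : Sylow 5 G := Sylow.ofCard (Subgroup.zpowers T) (by
      rw [Nat.card_zpowers, hTord, hG30]
      rw [show (30 : ℕ) = 5 ^ 1 * 6 by norm_num, Nat.factorization_mul (by norm_num) (by norm_num),
        Finsupp.add_apply, Nat.Prime.factorization_pow (by norm_num), Finsupp.single_eq_same,
        Nat.factorization_eq_zero_of_not_dvd (by norm_num : ¬ 5 ∣ 6), add_zero, pow_one])
    have hPc : Nat.card (P : Subgroup G) = 5 := by
      show Nat.card (Subgroup.zpowers T) = 5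
      rw [Nat.card_zpowers, hTord]
    have hPi : (P : Subgroup G).index = 6 := by
      have h2 := (P : Subgroup G).card_mul_index
      rw [hPc, hG30] at h2
      omega
    have hn : Nat.card (Sylow 5 G) ∣ 6 := hPi ▸ P.card_dvd_index
    have hmod : Nat.card (Sylow 5 G) % 5 = 1 := card_sylow_modEq_one 5 G
    have hN := P.card_eq_index_normalizer
    rcases (show Nat.card (Sylow 5 G) = 1 ∨ Nat.card (Sylow 5 G) = 6 by
      have hle := Nat.le_of_dvd (by norm_num) hn
      interval_cases Nat.card (Sylow 5 G) <;> omega) with h | h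
    · have hNt : (P : Subgroup G).Normal :=
        Subgroup.normalizer_eq_top_iff.1 (Subgroup.index_eq_one.1 (hN ▸ h))
      obtain ⟨i, hi⟩ := hNt.conj_mem T (Subgroup.mem_zpowers T) ⟨g, hg⟩
      obtain ⟨i', hi', hgcd⟩ := conj_cases (g := t) (h := g) (htc.orderOf.trans ht5)
        ⟨i, by simpa [T] using congrArg Subtype.val hi⟩
      rw [hg3, show Nat.gcd 3 (5 - 1) = 1 by norm_num, pow_one] at hgcd
      have : t ^ i' = t ^ (1 : ℤ) := by
        rw [zpow_eq_zpow_iff_modEq, htc.orderOf, ht5, ← ZMod.intCast_eq_intCast_iff]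
        simpa using hgcd
      rw [this, zpow_one] at hi'
      exact hCcard g (mul_inv_eq_iff_eq_mul.1 hi') hg3
    · -- self-normalising: transfer gives a normal subgroup of order six
      have hNP : Subgroup.normalizer ((P : Subgroup G) : Set G) = (P : Subgroup G) := by
        refine (Subgroup.eq_of_le_of_card_ge Subgroup.le_normalizer (le_of_eq ?_)).symm
        have h2 : Nat.card (Subgroup.normalizer ((P : Subgroup G) : Set G)) * Nat.card (Sylow 5 G) = 30 := by
          rw [hN, ← hG30]; exact Subgroup.card_mul_index _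
        rw [h] at h2
        rw [hPc]
        omega
      have hNC : Subgroup.normalizer ((P : Subgroup G) : Set G) ≤ Subgroup.centralizer ((P : Subgroup G) : Set G) := by
        rw [hNP]
        haveI : IsMulCommutative (P : Subgroup G) := Subgroup.zpowers_isMulCommutative T
        exact Subgroup.le_centralizer _
      set L := (MonoidHom.transferSylow P hNC).ker
      have hL6 : Nat.card L = 6 := by
        have hc := MonoidHom.ker_transferSylow_isComplement' P hNC
        rw [← hc.index_eq_card, hPi]
      obtain ⟨z, hz⟩ := exists_prime_orderOf_dvd_card' (G := L) 3 ⟨2, by omega⟩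
      have hidx : (Subgroup.zpowers z).index = 2 := by
        have h2 := (Subgroup.zpowers z).card_mul_index
        rw [Nat.card_zpowers, hz, hL6] at h2
        omega
      haveI := Subgroup.normal_of_index_eq_two hidx
      have hLn : (T : G) * (z : G) * T⁻¹ ∈ L := (inferInstance : L.Normal).conj_mem _ z.2 T
      have hw : (⟨_, hLn⟩ : L) ∈ Subgroup.zpowers z := by
        have h1 : orderOf (QuotientGroup.mk' (Subgroup.zpowers z) (⟨_, hLn⟩ : L)) ∣ 3 := by
          refine (orderOf_map_dvd _ _).trans (dvd_of_eq ?_)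
          rw [← Subgroup.orderOf_coe]
          show orderOf ((MulAut.conj T).toMonoidHom (z : G)) = 3
          rw [orderOf_injective _ (MulAut.conj T).injective, Subgroup.orderOf_coe, hz]
        have h2 : orderOf (QuotientGroup.mk' (Subgroup.zpowers z) (⟨_, hLn⟩ : L)) ∣ 2 := by
          rw [← hidx]
          exact orderOf_dvd_natCard _
        have h3 := Nat.dvd_gcd h1 h2
        rw [show Nat.gcd 3 2 = 1 by norm_num, Nat.dvd_one, orderOf_eq_one_iff] at h3
        exact (QuotientGroup.eq_one_iff _).1 h3
      obtain ⟨i, hi⟩ := hw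
      refine key ((z : G) : Equiv.Perm α) (by rw [Subgroup.orderOf_coe, Subgroup.orderOf_coe, hz]) ⟨i, ?_⟩
      simpa [T] using congrArg (fun w : L => ((w : G) : Equiv.Perm α)) hi
  · -- index six in the alternating group
    have hG60 : Nat.card G = 60 := by omega
    set H := G.subgroupOf (alternatingGroup α) with hH
    have hH60 : Nat.card H = 60 := by rw [Nat.card_congr (Subgroup.subgroupOfEquivOfLe heven).toEquiv, hG60]
    have hHi : H.index = 6 := by
      have h2 := H.card_mul_index
      rw [hH60, hA] at h2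
      omega
    classical
    haveI := alternatingGroup.isSimpleGroup (α := α) (by rw [Nat.card_eq_fintype_card]; omega)
    haveI : Fintype (alternatingGroup α ⧸ H) := Fintype.ofFinite _
    set φ := MulAction.toPermHom (alternatingGroup α) (alternatingGroup α ⧸ H)
    have hφ : Function.Injective φ :=
      CfsgLib.Invol.toPermHom_injective fun e => by rw [e, Subgroup.index_top] at hHi; omega
    have hq : Fintype.card (alternatingGroup α ⧸ H) = 6 := by rw [← Nat.card_eq_fintype_card]; exact hHi
    have hrange : φ.range = alternatingGroup (alternatingGroup α ⧸ H) := by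
      apply Equiv.Perm.eq_alternatingGroup_of_index_eq_two
      have h2 := φ.range.card_mul_index
      rw [← Nat.card_congr (MonoidHom.ofInjective hφ).toEquiv, hA, card_perm_eq, hq,
        show Nat.factorial 6 = 720 by rfl] at h2
      omega
    set q0 : alternatingGroup α ⧸ H := QuotientGroup.mk 1
    have hstab : ∀ x : H, ∀ y, φ (x : alternatingGroup α) y ≠ q0 ↔ y ≠ q0 := by
      intro x y
      have h0 : φ (x : alternatingGroup α) q0 = q0 := by
        show (x : alternatingGroup α) • (QuotientGroup.mk 1 : alternatingGroup α ⧸ H) = QuotientGroup.mk 1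
        rw [MulAction.Quotient.smul_mk, QuotientGroup.eq, smul_eq_mul, mul_one, mul_one]
        exact H.inv_mem x.2
      exact ⟨fun h e => h (e ▸ h0), fun h e => h ((φ (x : alternatingGroup α)).injective (e.trans h0.symm))⟩
    have hmove : ∀ x : H, ∀ y, φ (x : alternatingGroup α) y ≠ y → y ≠ q0 := by
      intro x y hy e
      subst e
      apply hy
      by_contra h
      exact (hstab x q0).1 h rfl
    let ψ : H →* alternatingGroup {y : alternatingGroup α ⧸ H // y ≠ q0} :=
      MonoidHom.mk' (fun x => ⟨(φ (x : alternatingGroup α)).subtypePerm (hstab x), by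
        rw [Equiv.Perm.mem_alternatingGroup, Equiv.Perm.sign_subtypePerm _ _ (hmove x)]
        exact Equiv.Perm.mem_alternatingGroup.1 (hrange ▸ ⟨(x : alternatingGroup α), rfl⟩)⟩)
        (fun x y => Subtype.ext (Equiv.ext fun z => Subtype.ext (by
          show φ ((x * y : H) : alternatingGroup α) z = φ (x : alternatingGroup α) (φ (y : alternatingGroup α) z)
          rw [Subgroup.coe_mul, map_mul, Equiv.Perm.mul_apply])))
    have hψ : Function.Injective ψ := by
      intro x y hxy
      refine Subtype.ext (hφ (Equiv.ext fun z => ?_))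
      by_cases hz : z = q0
      · subst hz
        have e1 : φ (x : alternatingGroup α) q0 = q0 := not_not.1 fun h => (hstab x q0).1 h rfl
        have e2 : φ (y : alternatingGroup α) q0 = q0 := not_not.1 fun h => (hstab y q0).1 h rfl
        rw [e1, e2]
      · exact congrArg Subtype.val (congrArg (fun w : alternatingGroup _ =>
          (w : Equiv.Perm {y : alternatingGroup α ⧸ H // y ≠ q0}) ⟨z, hz⟩) hxy)
    have h5' : Fintype.card {y : alternatingGroup α ⧸ H // y ≠ q0} = 5 := by
      rw [Fintype.card_subtype_compl, hq]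
      simp
    have hbij : Function.Bijective ψ := by
      rw [Nat.bijective_iff_injective_and_card]
      refine ⟨hψ, ?_⟩
      have := card_alt (α := {y : alternatingGroup α ⧸ H // y ≠ q0}) (by omega)
      rw [h5', show Nat.factorial 5 = 120 by rfl] at this
      omega
    exact ⟨((Subgroup.subgroupOfEquivOfLe heven).symm.trans (MulEquiv.ofBijective ψ hbij)).trans
      (Equiv.altCongrHom (Fintype.equivFinOfCardEq h5'))⟩

/-- A `5`-cycle or double `5`-cycle situation: conjugates of all `r`-elements. -/
theorem exists_cycle_of_full {G : Subgroup (Equiv.Perm α)} {r : ℕ} [Fact r.Prime]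
    (hr : r ≤ Fintype.card α)
    (hfull : r ^ (Nat.card (Equiv.Perm α)).factorization r ∣ Nat.card G) :
    ∃ g ∈ G, g.IsCycle ∧ g.support.card = r := by
  have hp : r.Prime := Fact.out
  obtain ⟨c, hc⟩ := (Equiv.Perm.exists_with_cycleType_iff α).2
    (show ({r} : Multiset ℕ).sum ≤ Fintype.card α ∧ ∀ a ∈ ({r} : Multiset ℕ), 2 ≤ a by
      simp [hr, hp.two_le])
  have hcc : c.IsCycle := by rw [← Equiv.Perm.card_cycleType_eq_one, hc]; rfl
  have hcs : c.support.card = r := by rw [← Equiv.Perm.sum_cycleType, hc, Multiset.sum_singleton]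
  obtain ⟨P0⟩ := (inferInstance : Nonempty (Sylow r G))
  set R := (P0 : Subgroup G).map G.subtype
  obtain ⟨S, hS⟩ := (P0.2.map G.subtype).exists_le_sylow
  have hRS : R = (S : Subgroup (Equiv.Perm α)) := by
    refine Subgroup.eq_of_le_of_card_ge hS ?_
    rw [Subgroup.card_map_of_injective G.subtype_injective, S.card_eq_multiplicity]
    exact Nat.le_of_dvd Nat.card_pos (P0.pow_dvd_card_of_pow_dvd_card hfull)
  obtain ⟨S', hS'⟩ := (IsPGroup.of_card (p := r) (n := 1) (G := Subgroup.zpowers c)
    (by rw [Nat.card_zpowers, hcc.orderOf, hcs, pow_one])).exists_le_sylow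
  obtain ⟨x, hx⟩ := MulAction.exists_smul_eq (Equiv.Perm α) S' S
  have hmem : x * c * x⁻¹ ∈ (S : Subgroup (Equiv.Perm α)) := by
    rw [← hx]
    exact Subgroup.smul_mem_pointwise_smul _ (MulAut.conj x) _ (hS' (Subgroup.mem_zpowers c))
  rw [← hRS] at hmem
  exact ⟨_, Subgroup.map_subtype_le _ hmem, hcc.conj, by rw [Equiv.Perm.card_support_conj, hcs]⟩

/-- Degree thirteen. -/
theorem alternating_le_thirteen {G : Subgroup (Equiv.Perm α)} (heven : G ≤ alternatingGroup α)
    (hα : Fintype.card α = 13) (hG : IsPreprimitive G α) {g : Equiv.Perm α} (hg : g ∈ G)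
    (hgc : g.IsCycle) (hg11 : g.support.card = 11) : alternatingGroup α ≤ G := by
  by_contra hnot
  haveI : Fact (Nat.Prime 11) := ⟨by norm_num⟩
  haveI : Fact (Nat.Prime 7) := ⟨by norm_num⟩
  haveI : Fact (Nat.Prime 5) := ⟨by norm_num⟩
  haveI : Fact (Nat.Prime 3) := ⟨by norm_num⟩
  haveI : Fact (Nat.Prime 2) := ⟨Nat.prime_two⟩
  haveI := three_pretransitive hG hg hgc (by rw [hg11]; norm_num) (by omega)
  have hsmall : ∀ r : ℕ, r.Prime → r ≤ 10 → ∀ u ∈ G, u.IsCycle → u.support.card ≠ r := by
    intro r hr hr10 u hu huc hus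
    exact hnot (Cfsg.Agent.S0713.result G hG hr (by omega) (by omega) huc hus hu)
  have hP : Nat.card (Equiv.Perm α) = 6227020800 := by rw [card_perm_eq, hα]; rfl
  have hGd : Nat.card G ∣ 6227020800 := hP ▸ Subgroup.card_subgroup_dvd_card G
  have h7 : ¬ 7 ∣ Nat.card G := by
    intro h
    obtain ⟨u, hu, huc, hus⟩ := exists_cycle_of_full (G := G) (r := 7) (by omega) (by
      rw [hP, show (6227020800 : ℕ) = 7 ^ 1 * 889574400 by norm_num, Nat.factorization_mul (by norm_num) (by norm_num),
        Finsupp.add_apply, Nat.Prime.factorization_pow (by norm_num), Finsupp.single_eq_same,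
        Nat.factorization_eq_zero_of_not_dvd (by norm_num : ¬ 7 ∣ 889574400)]
      simpa using h)
    exact hsmall 7 (by norm_num) (by omega) u hu huc hus
  have h25 : ¬ 25 ∣ Nat.card G := by
    intro h
    obtain ⟨u, hu, huc, hus⟩ := exists_cycle_of_full (G := G) (r := 5) (by omega) (by
      rw [hP, show (6227020800 : ℕ) = 5 ^ 2 * 249080832 by norm_num, Nat.factorization_mul (by norm_num) (by norm_num),
        Finsupp.add_apply, Nat.Prime.factorization_pow (by norm_num), Finsupp.single_eq_same,
        Nat.factorization_eq_zero_of_not_dvd (by norm_num : ¬ 5 ∣ 249080832)]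
      simpa using h)
    exact hsmall 5 (by norm_num) (by omega) u hu huc hus
  -- no elements of order five
  have h5 : ∀ u ∈ G, orderOf u ≠ 5 := by
    intro u hu hu5
    obtain ⟨n, hn⟩ := Equiv.Perm.cycleType_prime_order (σ := u) (by rw [hu5]; norm_num)
    rw [hu5] at hn
    have hsup := u.sum_cycleType
    rw [hn, Multiset.sum_replicate, smul_eq_mul] at hsup
    have hle := u.support.card_le_univ
    have hn1 : n = 1 := by
      rcases n with _ | _ | n
      · exfalso
        refine hsmall 5 (by norm_num) (by omega) u hu ?_ (by omega)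
        rw [← Equiv.Perm.card_cycleType_eq_one, hn]; rfl
      · rfl
      · omega
    subst hn1
    have hcompl : u.supportᶜ.card = 3 := by rw [Finset.card_compl]; omega
    obtain ⟨a, b, c, hab, hac, hbc, habc⟩ := Finset.card_eq_three.1 hcompl
    have hfa : ∀ x ∈ ({a, b, c} : Finset α), u x = x := fun x hx => by
      rw [← habc, Finset.mem_compl, Equiv.Perm.notMem_support] at hx
      exact hx
    set τ := Equiv.swap a b * Equiv.swap a c with hτ
    have hτa : τ a = c := by simp [hτ, Equiv.swap_apply_of_ne_of_ne hac.symm hbc.symm]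
    have hτ3 : τ.IsThreeCycle := Equiv.Perm.isThreeCycle_swap_mul_swap_same hab hac hbc
    have hτmem : ∀ x ∈ ({a, b, c} : Finset α), τ x ∈ ({a, b, c} : Finset α) := by
      intro x hx
      simp only [hτ, Equiv.Perm.mul_apply, Equiv.swap_apply_def]
      split_ifs <;> simp_all
    have hτout : ∀ x, x ∉ ({a, b, c} : Finset α) → τ x = x := by
      intro x hx
      simp only [Finset.mem_insert, Finset.mem_singleton, not_or] at hx
      simp [hτ, Equiv.swap_apply_of_ne_of_ne hx.1 hx.2.1, Equiv.swap_apply_of_ne_of_ne hx.1 hx.2.2]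
    have hτu : Commute τ u := by
      refine Equiv.Perm.Disjoint.commute fun x => ?_
      by_cases hx : x ∈ ({a, b, c} : Finset α)
      · exact Or.inr (hfa x hx)
      · exact Or.inl (hτout x hx)
    set s : Set α := ↑({a, b, c} : Finset α)
    have hscard : s.ncard = 3 := by rw [Set.ncard_coe_finset, ← habc, hcompl]
    obtain ⟨e⟩ : Nonempty (Fin 3 ≃ s) :=
      Finite.card_eq.mp (by rw [Nat.card_fin, Nat.card_coe_set_eq, hscard])
    let E : Fin 3 ↪ α := e.toEmbedding.trans (Function.Embedding.subtype _)
    obtain ⟨h, hh⟩ := exists_smul_eq G E (E.trans τ.toEmbedding)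
    have hsw : ∀ x ∈ s, (h : Equiv.Perm α) x = τ x := by
      intro x hx
      have := congrArg (fun f : Fin 3 ↪ α => f (e.symm ⟨x, hx⟩)) hh
      simpa [E, Function.Embedding.smul_apply, Subgroup.smul_def] using this
    let K : Subgroup (Equiv.Perm α) := G ⊓ fixingSubgroup (Equiv.Perm α) s
    have hKG : Nat.card K ∣ Nat.card G := Subgroup.card_dvd_of_le inf_le_left
    have huK : u ∈ K := ⟨hu, (mem_fixingSubgroup_iff _).2 fun x hx => hfa x hx⟩
    have hhu : (h : Equiv.Perm α) * u * (h : Equiv.Perm α)⁻¹ ∈ K := by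
      refine ⟨G.mul_mem (G.mul_mem h.2 hu) (G.inv_mem h.2), (mem_fixingSubgroup_iff _).2 fun x hx => ?_⟩
      have hτinv : τ⁻¹ x ∈ s := by
        by_contra hout
        apply hout
        have := hτout _ (fun h => hout h)
        rw [Equiv.Perm.coe_inv, Equiv.apply_symm_apply] at this
        rw [Equiv.Perm.coe_inv, ← this]
        exact hx
      have hinv : (h : Equiv.Perm α)⁻¹ x = τ⁻¹ x := by
        rw [Equiv.Perm.inv_eq_iff_eq, hsw _ hτinv]
        exact (Equiv.apply_symm_apply τ x).symm
      rw [Equiv.Perm.smul_def, Equiv.Perm.mul_apply, Equiv.Perm.mul_apply, hinv, hfa _ hτinv, hsw _ hτinv]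
      exact Equiv.apply_symm_apply τ x
    have hK5 : (Nat.card K).factorization 5 = 1 := by
      refine le_antisymm ?_ ((Nat.Prime.dvd_iff_one_le_factorization (by norm_num) Nat.card_pos.ne').1
        (hu5 ▸ Subgroup.orderOf_dvd_natCard K huK))
      by_contra hc
      push Not at hc
      exact h25 (((Nat.Prime.pow_dvd_iff_le_factorization (k := 2) (by norm_num) Nat.card_pos.ne').2 hc).trans hKG)
    have hsyl : ∀ z : K, orderOf z = 5 → ∃ P : Sylow 5 K, (P : Subgroup K) = Subgroup.zpowers z := fun z hz =>
      ⟨Sylow.ofCard (Subgroup.zpowers z) (by rw [Nat.card_zpowers, hz, hK5, pow_one]), rfl⟩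
    obtain ⟨P, hP⟩ := hsyl ⟨u, huK⟩ (by rw [← Subgroup.orderOf_coe, hu5])
    obtain ⟨Q, hQ⟩ := hsyl ⟨_, hhu⟩ (by
      rw [← Subgroup.orderOf_coe, ← hu5]
      exact orderOf_injective (MulAut.conj (h : Equiv.Perm α)).toMonoidHom (MulAut.conj _).injective u)
    obtain ⟨w, hw⟩ := exists_smul_eq K Q P
    have hwm : w * ⟨_, hhu⟩ * w⁻¹ ∈ (P : Subgroup K) := by
      rw [← hw]
      show _ ∈ MulAut.conj w • (Q : Subgroup K)
      exact Subgroup.smul_mem_pointwise_smul _ _ _ (hQ ▸ Subgroup.mem_zpowers _)
    rw [hP] at hwm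
    obtain ⟨i, hi⟩ := hwm
    set y := (w : Equiv.Perm α) * h
    have hyG : y ∈ G := G.mul_mem w.2.1 h.2
    have hys : ∀ x ∈ s, y x = τ x := fun x hx => by
      rw [Equiv.Perm.mul_apply, hsw x hx]
      exact (mem_fixingSubgroup_iff _).1 w.2.2 _ (hτmem x hx)
    have hyu : y * u * y⁻¹ ∈ Subgroup.zpowers u := by
      refine ⟨i, ?_⟩
      have := congrArg Subtype.val hi
      simp only [Subgroup.coe_zpow, Subgroup.coe_mul, Subgroup.coe_inv] at this
      show u ^ i = _
      rw [this, mul_inv_rev]
      simp only [y, mul_assoc]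
    obtain ⟨j, hj, hjg⟩ := conj_cases hu5 hyu
    have hj4 : (j : ZMod 5) ^ 4 = 1 := by
      obtain ⟨m, hm⟩ := Nat.gcd_dvd_right (orderOf y) (5 - 1)
      rw [show (4 : ℕ) = 5 - 1 by rfl, hm, pow_mul, hjg, one_pow]
    have hpow : ∀ n : ℕ, y ^ n * u * (y ^ n)⁻¹ = u ^ (j ^ n) := by
      intro n
      induction n with
      | zero => simp
      | succ n ih =>
        calc y ^ (n + 1) * u * (y ^ (n + 1))⁻¹ = y * (y ^ n * u * (y ^ n)⁻¹) * y⁻¹ := by
              rw [pow_succ']; group
          _ = (y * u * y⁻¹) ^ (j ^ n) := by rw [ih, conj_zpow]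
          _ = u ^ (j ^ (n + 1)) := by rw [hj, ← zpow_mul, pow_succ']
    set z := y ^ 4
    have hzu : Commute z u := by
      have h1 := hpow 4
      have : u ^ (j ^ 4) = u ^ (1 : ℤ) := by
        rw [zpow_eq_zpow_iff_modEq, hu5, ← ZMod.intCast_eq_intCast_iff]
        push_cast
        exact hj4
      rw [this, zpow_one] at h1
      exact mul_inv_eq_iff_eq_mul.1 h1
    set Cu := Subgroup.centralizer ({u} : Set (Equiv.Perm α))
    have hCu : Nat.card Cu = 300 := by
      rw [Equiv.Perm.nat_card_centralizer, hn, hα]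
      simp [Multiset.sum_replicate, Nat.factorial]
    have hz300 : (z ^ 100) ^ 3 = 1 := by
      rw [← pow_mul, ← orderOf_dvd_iff_pow_eq_one]
      exact (Subgroup.orderOf_dvd_natCard Cu (Subgroup.mem_centralizer_singleton_iff.2 hzu.eq)).trans (by rw [hCu])
    have hzne : z ^ 100 ≠ 1 := by
      intro e
      have hpows : ∀ m : ℕ, (y ^ m) a = (τ ^ m) a ∧ (τ ^ m) a ∈ s := by
        intro m
        induction m with
        | zero => exact ⟨rfl, by simp [s]⟩
        | succ m ih =>
          rw [pow_succ', pow_succ', Equiv.Perm.mul_apply y (y ^ m), Equiv.Perm.mul_apply τ, ih.1, hys _ ih.2]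
          exact ⟨rfl, hτmem _ ih.2⟩
      have h4 := (hpows (4 * 100)).1
      rw [pow_mul, show y ^ 4 = z from rfl, e, ← pow_mod_orderOf τ, hτ3.orderOf, show 4 * 100 % 3 = 1 by norm_num,
        pow_one, hτa] at h4
      exact hac h4
    have hzord : orderOf (z ^ 100) = 3 := orderOf_eq_prime hz300 hzne
    have hC3 : (Nat.card Cu).factorization 3 = 1 := by
      rw [hCu, show (300 : ℕ) = 3 ^ 1 * 100 by norm_num, Nat.factorization_mul (by norm_num) (by norm_num),
        Finsupp.add_apply, Nat.Prime.factorization_pow (by norm_num), Finsupp.single_eq_same,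
        Nat.factorization_eq_zero_of_not_dvd (by norm_num : ¬ 3 ∣ 100)]
    have hz' : z ^ 100 ∈ Cu := Subgroup.mem_centralizer_singleton_iff.2 (hzu.pow_left 100).eq
    have hτ' : τ ∈ Cu := Subgroup.mem_centralizer_singleton_iff.2 hτu.eq
    let P1 : Sylow 3 Cu := Sylow.ofCard (Subgroup.zpowers ⟨_, hz'⟩) (by
      rw [Nat.card_zpowers, hC3, pow_one, ← Subgroup.orderOf_coe, hzord])
    let P2 : Sylow 3 Cu := Sylow.ofCard (Subgroup.zpowers ⟨_, hτ'⟩) (by
      rw [Nat.card_zpowers, hC3, pow_one, ← Subgroup.orderOf_coe, hτ3.orderOf])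
    obtain ⟨v, hv⟩ := exists_smul_eq Cu P1 P2
    have hvm : v * ⟨_, hz'⟩ * v⁻¹ ∈ (P2 : Subgroup Cu) := by
      rw [← hv]
      show _ ∈ MulAut.conj v • (P1 : Subgroup Cu)
      exact Subgroup.smul_mem_pointwise_smul _ _ _ (Subgroup.mem_zpowers _)
    obtain ⟨m, hm⟩ := hvm
    have hm' := congrArg Subtype.val hm
    simp only [Subgroup.coe_zpow, Subgroup.coe_mul, Subgroup.coe_inv] at hm'
    have hle3 : (z ^ 100).support.card ≤ 3 := by
      rw [← Equiv.Perm.card_support_conj (σ := (v : Equiv.Perm α)), ← hm', ← hτ3.card_support]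
      exact Finset.card_le_card (Equiv.Perm.support_zpow_le τ m)
    obtain ⟨k, hk⟩ := Equiv.Perm.cycleType_prime_order (σ := z ^ 100) (by rw [hzord]; norm_num)
    have hk3 := (z ^ 100).sum_cycleType
    rw [hk, hzord, Multiset.sum_replicate, smul_eq_mul] at hk3
    have hzc : (z ^ 100).IsCycle := by
      rw [← Equiv.Perm.card_cycleType_eq_one, hk, Multiset.card_replicate]; omega
    have h33 : (z ^ 100).support.card = 3 := by omega
    exact hsmall 3 (by norm_num) (by omega) _ (G.pow_mem (G.pow_mem hyG 4) 100) hzc h33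
  -- the stabiliser of two points
  obtain ⟨a, b, hab, hfab⟩ := Finset.card_eq_two.1
    (show g.supportᶜ.card = 2 by rw [Finset.card_compl]; omega)
  have hga : g a = a := by
    rw [← Equiv.Perm.notMem_support, ← Finset.mem_compl, hfab]; simp
  have hgb : g b = b := by
    rw [← Equiv.Perm.notMem_support, ← Finset.mem_compl, hfab]; simp
  haveI hG1 : IsPretransitive G α := hG.toIsPretransitive
  haveI hG2 : IsMultiplyPretransitive G α 2 :=
    isMultiplyPretransitive_of_le (n := 3) (by omega) (by rw [Nat.card_eq_fintype_card]; omega)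
  set H := MulAction.stabilizer G a with hH
  have hHi : H.index = 13 := by rw [index_stabilizer_of_transitive G a, Nat.card_eq_fintype_card, hα]
  have horb : ∀ c : α, c ≠ a → (orbit H c) = {x | x ≠ a} := by
    intro c hc
    ext x
    constructor
    · rintro ⟨v, rfl⟩ e
      apply hc
      have : ((v : G) : Equiv.Perm α) c = ((v : G) : Equiv.Perm α) a := e.trans (v.2 : (v : G) • a = a).symm
      exact ((v : G) : Equiv.Perm α).injective this
    · intro hx
      obtain ⟨v, hv⟩ := is_two_pretransitive_iff.1 hG2 (Ne.symm hc) (Ne.symm hx)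
      exact ⟨⟨v, hv.1⟩, hv.2⟩
  have hK12 : ∀ c : α, c ≠ a → (MulAction.stabilizer H c).index = 12 := by
    intro c hc
    rw [MulAction.index_stabilizer, horb c hc, show {x | x ≠ a} = ({a} : Set α)ᶜ by ext; simp,
      Set.ncard_compl, Set.ncard_singleton, Nat.card_eq_fintype_card, hα]
  set K := MulAction.stabilizer H b with hK
  have hgH : (⟨g, hg⟩ : G) ∈ H := hga
  set gK : K := ⟨⟨⟨g, hg⟩, hgH⟩, hgb⟩ with hgK
  let ι : K →* Equiv.Perm α := G.subtype.comp (H.subtype.comp K.subtype)
  have hι : Function.Injective ι :=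
    G.subtype_injective.comp (H.subtype_injective.comp K.subtype_injective)
  have hgord : orderOf g = 11 := hgc.orderOf.trans hg11
  have hgKord : orderOf gK = 11 := by rw [← orderOf_injective ι hι]; exact hgord
  have hιfix : ∀ u : K, ∀ x, g x = x → ι u x = x := by
    intro u x hx
    have hx' : x = a ∨ x = b := by
      have : x ∈ g.supportᶜ := Finset.mem_compl.2 (Equiv.Perm.notMem_support.2 hx)
      rwa [hfab, Finset.mem_insert, Finset.mem_singleton] at this
    rcases hx' with rfl | rfl
    · exact (u : H).2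
    · exact u.2
  have hCK : ∀ u : K, Commute (ι u) g → u ∈ Subgroup.zpowers gK := by
    intro u hu
    obtain ⟨i, hi⟩ := mem_zpowers_of_commute hgc hu (hιfix u)
    exact ⟨i, hι (by rw [map_zpow]; exact hi)⟩
  have hcop5 : ∀ u : Equiv.Perm α, u ∈ G → Nat.gcd (orderOf u) 10 ∣ 2 := by
    intro u hu
    have hd := Nat.gcd_dvd_right (orderOf u) 10
    have hn5 : ¬ 5 ∣ Nat.gcd (orderOf u) 10 := fun h => by
      refine h5 _ (G.pow_mem hu (orderOf u / 5)) ?_
      exact orderOf_pow_orderOf_div (orderOf_pos u).ne' (h.trans (Nat.gcd_dvd_left _ _))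
    exact (((Nat.Prime.coprime_iff_not_dvd (by norm_num)).2 hn5).symm).dvd_of_dvd_mul_left hd
  -- the Sylow `11`-subgroup
  have h11 : (Nat.card K).factorization 11 = 1 := by
    refine le_antisymm ?_ ((Nat.Prime.dvd_iff_one_le_factorization (by norm_num) Nat.card_pos.ne').1
      (hgKord ▸ orderOf_dvd_natCard gK))
    by_contra hc
    push Not at hc
    have h := ((Nat.Prime.pow_dvd_iff_le_factorization (k := 2) (by norm_num) Nat.card_pos.ne').2 hc).trans
      ((Subgroup.card_subgroup_dvd_card K).trans ((Subgroup.card_subgroup_dvd_card H).trans hGd))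
    norm_num at h
  let P : Sylow 11 K := Sylow.ofCard (Subgroup.zpowers gK) (by rw [Nat.card_zpowers, hgKord, h11, pow_one])
  have hNC : Subgroup.normalizer ((P : Subgroup K) : Set K) ≤ Subgroup.centralizer ((P : Subgroup K) : Set K) := by
    intro u hu
    suffices h : u ∈ Subgroup.zpowers gK by
      haveI : IsMulCommutative (P : Subgroup K) := Subgroup.zpowers_isMulCommutative gK
      exact Subgroup.le_centralizer (P : Subgroup K) h
    obtain ⟨i, hi⟩ := (Subgroup.mem_normalizer_iff.1 hu gK).1 (Subgroup.mem_zpowers gK)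
    have hi' : ι u * g * (ι u)⁻¹ ∈ Subgroup.zpowers g := ⟨i, by
      have := congrArg ι hi
      rw [map_zpow, map_mul, map_mul, map_inv] at this
      exact this⟩
    obtain ⟨j, hj, hjg⟩ := conj_cases hgord hi'
    have hj2 : (j : ZMod 11) ^ 2 = 1 := by
      obtain ⟨m, hm⟩ := hcop5 (ι u) ((u : H) : G).2
      rw [show (11 - 1 : ℕ) = 10 by rfl] at hjg
      rw [hm, pow_mul, hjg, one_pow]
    rcases sq_eq_one_iff.1 hj2 with e | e
    · refine hCK u (mul_inv_eq_iff_eq_mul.1 (hj.trans ?_))
      conv_rhs => rw [← zpow_one g]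
      rw [zpow_eq_zpow_iff_modEq, hgord, ← ZMod.intCast_eq_intCast_iff]
      simpa using e
    · exfalso
      have hinv : ι u * g * (ι u)⁻¹ = g⁻¹ := by
        rw [hj, ← zpow_neg_one, zpow_eq_zpow_iff_modEq, hgord, ← ZMod.intCast_eq_intCast_iff]
        simpa using e
      have hinv2 : ι (u * u) * g * (ι (u * u))⁻¹ = g := by
        rw [map_mul, mul_inv_rev, show ι u * ι u * g * ((ι u)⁻¹ * (ι u)⁻¹) =
          ι u * (ι u * g * (ι u)⁻¹) * (ι u)⁻¹ by group, hinv, ← conj_inv, hinv, inv_inv]
      have hmem2 := hCK _ (mul_inv_eq_iff_eq_mul.1 hinv2)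
      obtain ⟨k, hk⟩ := hmem2
      set v := u ^ 11 with hv
      have hv2 : v * v = 1 := by
        rw [hv, ← pow_add, ← two_mul, pow_mul, sq, ← hk, ← zpow_natCast, ← zpow_mul, mul_comm, zpow_mul,
          zpow_natCast, orderOf_dvd_iff_pow_eq_one.1 hgKord.dvd, one_zpow]
      have hvinv : ι v * g * (ι v)⁻¹ = g⁻¹ := by
        obtain ⟨c, hc⟩ : ∃ c : K, v = (u * u) ^ 5 * u ∧ c = (u * u) ^ 5 :=
          ⟨(u * u) ^ 5, by rw [hv, ← sq, ← pow_mul, ← pow_succ], rfl⟩
        rw [hc.1, map_mul, mul_inv_rev, show ι ((u * u) ^ 5) * ι u * g * ((ι u)⁻¹ * (ι ((u * u) ^ 5))⁻¹) =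
          ι ((u * u) ^ 5) * (ι u * g * (ι u)⁻¹) * (ι ((u * u) ^ 5))⁻¹ by group, hinv, ← hk, ← zpow_natCast,
          ← zpow_mul, map_zpow]
        show g ^ _ * g⁻¹ * (g ^ _)⁻¹ = g⁻¹
        group
      have hvne : v ≠ 1 := by
        intro e
        rw [e, map_one, one_mul, inv_one, mul_one] at hvinv
        have : orderOf g ∣ 2 := orderOf_dvd_of_pow_eq_one (by rw [sq]; nth_rewrite 2 [hvinv]; rw [mul_inv_cancel])
        rw [hgord] at this
        norm_num at this
      have hvord : orderOf (ι v) = 2 := by
        rw [orderOf_injective ι hι]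
        exact orderOf_eq_prime (by rw [sq, hv2]) hvne
      have := sign_eq_neg_one_of_inverts hgc (by rw [hg11]) hvord hvinv (hιfix v)
      have h9 : Equiv.Perm.sign (ι v) = 1 := Equiv.Perm.mem_alternatingGroup.1 (heven ((v : H) : G).2)
      rw [h9] at this
      exact absurd this (by decide)
  have hKcard : Nat.card K = 11 := by
    set L := (MonoidHom.transferSylow P hNC).ker
    have hcompl := MonoidHom.ker_transferSylow_isComplement' P hNC
    have hLndvd : ¬ 11 ∣ Nat.card L := MonoidHom.not_dvd_card_ker_transferSylow P hNC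
    have hPc : Nat.card (P : Subgroup K) = 11 := by
      show Nat.card (Subgroup.zpowers gK) = 11
      rw [Nat.card_zpowers, hgKord]
    have hLi : L.index = 11 := by rw [hcompl.symm.index_eq_card, hPc]
    have hmulL := L.card_mul_index
    rw [hLi] at hmulL
    have horbK : ∀ x, g x ≠ x → (orbit K x).ncard = 11 := by
      intro x hx
      rw [← hg11, ← Set.ncard_coe_finset]
      congr 1
      ext w
      rw [Finset.mem_coe, Equiv.Perm.mem_support]
      constructor
      · rintro ⟨v, rfl⟩ e
        have e2 : ι v (ι v x) = ι v x := hιfix v _ e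
        exact hx (by
          have e3 : ι v x = x := (ι v).injective e2
          have e4 : g (ι v x) = ι v x := e
          rw [e3] at e4
          exact e4)
      · intro hw
        obtain ⟨i, hi⟩ := hgc.exists_zpow_eq hx hw
        exact ⟨gK ^ i, by show ι (gK ^ i) x = w; rw [map_zpow]; exact hi⟩
    have hstabL : ∀ x, g x ≠ x → L = MulAction.stabilizer K x := by
      intro x hx
      have hidx : (MulAction.stabilizer K x).index = 11 := by rw [MulAction.index_stabilizer, horbK x hx]
      have hm2 := (MulAction.stabilizer K x).card_mul_index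
      rw [hidx] at hm2
      have hle : MulAction.stabilizer K x ≤ L := by
        intro v hv
        haveI : L.Normal := MonoidHom.normal_ker _
        rw [← QuotientGroup.eq_one_iff, ← orderOf_eq_one_iff]
        refine Nat.eq_one_of_dvd_coprimes ((Nat.Prime.coprime_iff_not_dvd (by norm_num : Nat.Prime 11)).2 hLndvd)
          (by rw [← hLi]; exact orderOf_dvd_natCard _) ?_
        rw [show Nat.card L = Nat.card (MulAction.stabilizer K x) by omega]
        exact (orderOf_map_dvd (QuotientGroup.mk' L) v).trans (Subgroup.orderOf_dvd_natCard _ hv)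
      exact (Subgroup.eq_of_le_of_card_ge hle (by omega)).symm
    have hLbot : L = ⊥ := by
      refine (Subgroup.eq_bot_iff_forall _).2 fun v hv => hι (Equiv.ext fun x => ?_)
      rw [map_one, Equiv.Perm.one_apply]
      by_cases hx : g x = x
      · exact hιfix v x hx
      · rw [hstabL x hx] at hv
        exact hv
    rw [hLbot, Subgroup.card_bot] at hmulL
    omega
  have hH132 : Nat.card H = 132 := by
    have h := K.card_mul_index
    rw [hKcard, hK12 b (Ne.symm hab)] at h
    omega
  have hHc : ∀ c : α, c ≠ a → Nat.card (MulAction.stabilizer H c) = 11 := by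
    intro c hc
    have h := (MulAction.stabilizer H c).card_mul_index
    rw [hK12 c hc, hH132] at h
    omega
  -- elements of order two and three in `H`
  classical
  cases nonempty_fintype H
  set S := Finset.univ.filter fun v : H => orderOf v ≠ 11 ∧ v ≠ 1 with hS
  have hfixord : ∀ c : α, c ≠ a → ∀ v : H, v ∈ MulAction.stabilizer H c → v ≠ 1 → orderOf v = 11 := by
    intro c hc v hv hv1
    have h1 : orderOf v ∣ 11 := hHc c hc ▸ Subgroup.orderOf_dvd_natCard _ hv
    exact ((Nat.Prime.eq_one_or_self_of_dvd (by norm_num) _ h1).resolve_left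
      (fun h => hv1 (orderOf_eq_one_iff.1 h)))
  have hnot11 : ∀ c d : α, c ≠ a → d ≠ a → c ≠ d → ∀ v : H, v ≠ 1 → v ∈ MulAction.stabilizer H c →
      v ∈ MulAction.stabilizer H d → False := by
    intro c d hc hd hcd v hv1 hvc hvd
    have ho := hfixord c hc v hvc hv1
    have ho' : orderOf ((v : G) : Equiv.Perm α) = 11 := by rw [Subgroup.orderOf_coe, Subgroup.orderOf_coe, ho]
    have hcyc : ((v : G) : Equiv.Perm α).IsCycle := Equiv.Perm.isCycle_of_prime_order'
      (by rw [ho']; norm_num) (by rw [ho', hα]; norm_num)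
    have hsub : ({a, c, d} : Finset α) ⊆ ((v : G) : Equiv.Perm α).supportᶜ := by
      intro x hx
      rw [Finset.mem_compl, Equiv.Perm.notMem_support]
      simp only [Finset.mem_insert, Finset.mem_singleton] at hx
      rcases hx with rfl | rfl | rfl
      · exact v.2
      · exact hvc
      · exact hvd
    have := Finset.card_le_card hsub
    rw [Finset.card_compl, hα, ← hcyc.orderOf, ho', Finset.card_eq_three.2 ⟨a, c, d, Ne.symm hc, Ne.symm hd, hcd, rfl⟩] at this
    omega
  have hScard : S.card ≤ 11 := by
    set T := (Finset.univ.erase a).biUnion fun c => Finset.univ.filter fun v : H => v ≠ 1 ∧ v ∈ MulAction.stabilizer H c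
    have hTcard : T.card = 120 := by
      rw [Finset.card_biUnion]
      · rw [Finset.sum_congr rfl (g := fun _ => 10) fun c hc => ?_]
        · simp [hα]
        · have hc' : c ≠ a := (Finset.mem_erase.1 hc).1
          have e : (Finset.univ.filter fun v : H => v ≠ 1 ∧ v ∈ MulAction.stabilizer H c) =
              (Finset.univ.filter fun v : H => v ∈ MulAction.stabilizer H c).erase 1 := by
            ext v; simp [and_comm]
          rw [e, Finset.card_erase_of_mem (by simp), ← Fintype.card_subtype]
          have h9 : Fintype.card {v : H // v ∈ MulAction.stabilizer H c} = 11 := by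
            rw [← Nat.card_eq_fintype_card]; exact hHc c hc'
          omega
      · intro c hc d hd hcd
        rw [Function.onFun, Finset.disjoint_left]
        intro v hv hv'
        simp only [Finset.mem_filter, Finset.mem_univ, true_and] at hv hv'
        exact hnot11 c d (Finset.mem_erase.1 hc).1 (Finset.mem_erase.1 hd).1 hcd v hv.1 hv.2 hv'.2
    have hdis : Disjoint (insert (1 : H) T) S := by
      rw [Finset.disjoint_left]
      intro v hv hv'
      rw [hS, Finset.mem_filter] at hv'
      rcases Finset.mem_insert.1 hv with rfl | h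
      · exact hv'.2.2 rfl
      · obtain ⟨c, hc, hvc⟩ := Finset.mem_biUnion.1 h
        rw [Finset.mem_filter] at hvc
        exact hv'.2.1 (hfixord c (Finset.mem_erase.1 hc).1 v hvc.2.2 hvc.2.1)
    have h1 : (1 : H) ∉ T := by simp [T]
    have := Finset.card_union_of_disjoint hdis
    have hle := Finset.card_le_univ (insert (1 : H) T ∪ S)
    rw [Finset.card_insert_of_notMem h1, hTcard] at this
    rw [← Nat.card_eq_fintype_card, hH132] at hle
    omega
  have hclass : ∀ z : H, orderOf z = 2 ∨ orderOf z = 3 →
      11 ≤ (Finset.univ.filter fun v : H => IsConj z v).card := by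
    intro z hz
    have h1 : 11 ∣ (Subgroup.centralizer ({z} : Set H)).index := by
      have hm := (Subgroup.centralizer ({z} : Set H)).card_mul_index
      rw [hH132] at hm
      refine ((Nat.Prime.dvd_mul (by norm_num)).1 ⟨12, by omega⟩).resolve_left fun hd => ?_
      obtain ⟨w, hw⟩ := exists_prime_orderOf_dvd_card' (G := Subgroup.centralizer ({z} : Set H)) 11 hd
      have hw' : orderOf ((((w : H) : G)) : Equiv.Perm α) = 11 := by
        rw [Subgroup.orderOf_coe, Subgroup.orderOf_coe, Subgroup.orderOf_coe, hw]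
      have hcyc : (((w : H) : G) : Equiv.Perm α).IsCycle := Equiv.Perm.isCycle_of_prime_order'
        (by rw [hw']; norm_num) (by rw [hw', hα]; norm_num)
      have hzw : Commute (((z : H) : G) : Equiv.Perm α) (((w : H) : G) : Equiv.Perm α) :=
        congrArg (fun v : H => ((v : G) : Equiv.Perm α)) (Subgroup.mem_centralizer_singleton_iff.1 w.2).symm
      set W := (((w : H) : G) : Equiv.Perm α) with hW
      have hcard : W.supportᶜ.card = 2 := by rw [Finset.card_compl, hα, ← hcyc.orderOf, hw']
      have haW : a ∈ W.supportᶜ := by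
        rw [Finset.mem_compl, Equiv.Perm.notMem_support]; exact (w : H).2
      obtain ⟨c, hc⟩ := Finset.card_eq_one.1 (show (W.supportᶜ.erase a).card = 1 by
        rw [Finset.card_erase_of_mem haW, hcard])
      have hcmem : c ∈ W.supportᶜ.erase a := by rw [hc]; exact Finset.mem_singleton_self c
      rw [Finset.mem_erase, Finset.mem_compl, Equiv.Perm.notMem_support] at hcmem
      have hzc : ((z : G) : Equiv.Perm α) c = c := by
        rw [← Finset.mem_singleton, ← hc, Finset.mem_erase, Finset.mem_compl, Equiv.Perm.notMem_support,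
          ← Equiv.Perm.mul_apply, ← hzw.eq, Equiv.Perm.mul_apply, hcmem.2]
        refine ⟨fun e => hcmem.1 (((z : G) : Equiv.Perm α).injective (e.trans ?_)), rfl⟩
        exact ((z : H).2 : (z : G) • a = a).symm
      have := hfixord c hcmem.1 z hzc (fun e => by rw [e, orderOf_one] at hz; omega)
      omega
    have h2 : (Finset.univ.filter fun v : H => IsConj z v).card = (Subgroup.centralizer ({z} : Set H)).index := by
      rw [← CfsgLib.ClassSize.ncard_setOf_isConj, ← Set.ncard_coe_finset]
      congr 1
      ext; simp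
    rw [h2]
    exact Nat.le_of_dvd (Nat.pos_of_ne_zero Subgroup.index_ne_zero_of_finite) h1
  obtain ⟨z2, hz2⟩ := exists_prime_orderOf_dvd_card' (G := H) 2 (by rw [hH132]; norm_num)
  obtain ⟨z3, hz3⟩ := exists_prime_orderOf_dvd_card' (G := H) 3 (by rw [hH132]; norm_num)
  have hsub : ∀ z v : H, IsConj z v → orderOf v = orderOf z := by
    intro z v h
    obtain ⟨c, hc⟩ := isConj_iff.1 h
    rw [← hc]
    exact orderOf_injective (MulAut.conj c).toMonoidHom (MulAut.conj c).injective z
  have hle := Finset.card_le_card (show (Finset.univ.filter fun v : H => IsConj z2 v) ∪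
      (Finset.univ.filter fun v : H => IsConj z3 v) ⊆ S by
    intro v hv
    simp only [Finset.mem_union, Finset.mem_filter, Finset.mem_univ, true_and, hS] at hv ⊢
    rcases hv with h | h
    · have := hsub _ _ h; rw [hz2] at this
      exact ⟨by omega, fun e => by rw [e, orderOf_one] at this; omega⟩
    · have := hsub _ _ h; rw [hz3] at this
      exact ⟨by omega, fun e => by rw [e, orderOf_one] at this; omega⟩)
  rw [Finset.card_union_of_disjoint (by
    rw [Finset.disjoint_left]
    intro v h h'
    simp only [Finset.mem_filter, Finset.mem_univ, true_and] at h h'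
    have := (hsub _ _ h).symm.trans (hsub _ _ h')
    omega)] at hle
  have := hclass z2 (Or.inl hz2)
  have := hclass z3 (Or.inr hz3)
  omega

end CfsgLib.AltTwoGen
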